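import Mathlib
import Cfsg.Agent.Lib.OrthE.Embed
import Cfsg.Agent.Lib.Classical.SymmSp

/-!
# Quadratic forms over the field with two elements
-/

set_option autoImplicit false

namespace CfsgLib.OrthE

open QuadraticMap Module CfsgLib.Forms Matrix

section abstract

variable {V : Type*} [AddCommGroup V] [Module (ZMod 2) V] {Q : QuadraticForm (ZMod 2) V}

theorem zmod_two_mul_self (a : ZMod 2) : a * a = a := by revert a; decide

/-- The form `Q + f(·, w)`. -/
def shiftQ (Q : QuadraticForm (ZMod 2) V) (w : V) : QuadraticForm (ZMod 2) V :=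
  Q + linMulLin (polarBilin Q w) (polarBilin Q w)

theorem shiftQ_apply (w x : V) : shiftQ Q w x = Q x + polar Q x w := by
  rw [shiftQ, _root_.add_apply, linMulLin_apply, zmod_two_mul_self, polarBilin_apply_apply,
    polar_comm]

theorem polar_shiftQ (w x y : V) : polar (shiftQ Q w) x y = polar Q x y := by
  rw [polar, shiftQ_apply, shiftQ_apply, shiftQ_apply, polar_add_left, Q_add]; ring

theorem Nondeg.shiftQ (hQ : Nondeg Q) (w : V) : Nondeg (shiftQ Q w) := fun x hx =>
  hQ x fun y => (polar_shiftQ w x y).symm.trans (hx y)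

theorem shiftQ_injective (hQ : Nondeg Q) : Function.Injective fun w => (shiftQ Q w : V → ZMod 2) :=
  fun w w' h => sub_eq_zero.1 (hQ _ fun y => by
    have := congrFun h y
    simp only [shiftQ_apply, add_right_inj] at this
    rw [polar_comm, polar_sub_right, this, sub_self])

variable [FiniteDimensional (ZMod 2) V]

theorem exists_eq_shiftQ (hQ : Nondeg Q) {q : V → ZMod 2}
    (hq : ∀ u v, q (u + v) = q u + q v + polar Q u v) : ∃ w, q = shiftQ Q w := by
  let l : V →+ ZMod 2 := AddMonoidHom.mk' (fun x => q x - Q x) fun x y => by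
    rw [hq, Q_add]; ring
  obtain ⟨w, hw⟩ := (ofQuad Q).exists_B_eq hQ.ofQuad (l.toZModLinearMap 2)
  refine ⟨w, funext fun x => ?_⟩
  have : polar Q w x = q x - Q x := LinearMap.congr_fun hw x
  rw [shiftQ_apply, polar_comm, this, add_sub_cancel]

theorem exists_equiv_shiftQ_iff (hQ : Nondeg Q) {k : ℕ} (hd : finrank (ZMod 2) V = 2 * (k + 1))
    (w : V) : (∃ g : V ≃ₗ[ZMod 2] V, ∀ v, shiftQ Q w v = Q (g v)) ↔ Q w = 0 := by
  have hww : polar Q w w = 0 := by rw [polar_self', two_mul, CharTwo.add_self_eq_zero]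
  constructor
  · rintro ⟨g, hg⟩
    by_contra hw
    have : Finite V := Module.finite_of_finite (ZMod 2)
    have h1 := card_level_congr g (fun v => (hg v).symm) 0
    have h2 : Nat.card {v // shiftQ Q w v = 0} = Nat.card {v // ¬ Q v = 0} :=
      Nat.card_congr ((Equiv.addRight w).subtypeEquiv fun v => by
        rw [shiftQ_apply, Equiv.coe_addRight, Q_add]
        revert hw
        generalize Q w = a, Q v = b, polar Q v w = c
        revert a b c; decide)
    obtain ⟨ε, hε, h3⟩ := card_zeros_even k Q hQ hd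
    have h4 := Nat.card_congr (Equiv.sumCompl fun v => Q v = 0)
    rw [Nat.card_sum, ← h2, h1, Module.natCard_eq_pow_finrank (K := ZMod 2) (V := V), hd] at h4
    have h5 := pow_lt_pow_succ_card (F := ZMod 2) k
    zify at h4
    rw [h3, show 2 * (k + 1) = 2 * k + 1 + 1 by ring, pow_succ _ (2 * k + 1)] at h4
    rw [Nat.card_zmod] at h4 h5
    push_cast at h4 h5
    rcases hε with rfl | rfl <;> linarith
  · intro hw
    let t : V →ₗ[ZMod 2] V := LinearMap.id + (polarBilin Q w).smulRight w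
    have ht : ∀ x, t x = x + polar Q w x • w := fun _ => rfl
    refine ⟨LinearEquiv.ofInvolutive t fun x => ?_, fun v => ?_⟩
    · rw [ht, ht, polar_add_right, polar_smul_right, hww, smul_zero, add_zero, add_assoc,
        ← add_smul, CharTwo.add_self_eq_zero, zero_smul, add_zero]
    · change _ = Q (t v)
      rw [ht, shiftQ_apply, Q_add, Q_smul, hw, mul_zero, add_zero, polar_smul_right, smul_eq_mul,
        polar_comm Q w, zmod_two_mul_self]

end abstract

theorem anisotropic_one_one :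
    ∀ z₁ z₂ : ZMod 2, z₁ ^ 2 + 1 * z₁ * z₂ + 1 * z₂ ^ 2 = 0 → z₁ = 0 ∧ z₂ = 0 := by decide

theorem polar_quadFormPlus {F : Type*} [Field F] (m : ℕ) (u v : Fin m ⊕ Fin m → F) :
    Cfsg.quadFormPlus m F (u + v) - Cfsg.quadFormPlus m F u - Cfsg.quadFormPlus m F v
      = polar (qPlus F m) u v := by
  rw [qPlus_eq, qPlus_eq, qPlus_eq, polar]

theorem polar_qPlus_spB {F : Type*} [Field F] [CharP F 2] (m : ℕ) (u v : Fin m ⊕ Fin m → F) :
    polar (qPlus F m) u v = spB (Fin m) F u v := by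
  rw [polar_qPlus, spB_eq_sum]
  exact Finset.sum_congr rfl fun i _ => by rw [CharTwo.sub_eq_add, add_comm]

theorem shiftQ_plus_iff (k : ℕ) (w : Fin (k + 1) ⊕ Fin (k + 1) → ZMod 2) :
    (∃ g : (Fin (k + 1) ⊕ Fin (k + 1) → ZMod 2) ≃ₗ[ZMod 2] (Fin (k + 1) ⊕ Fin (k + 1) → ZMod 2),
      ∀ v, shiftQ (qPlus (ZMod 2) (k + 1)) w v = Cfsg.quadFormPlus (k + 1) (ZMod 2) (g v)) ↔
      qPlus (ZMod 2) (k + 1) w = 0 := by
  simp only [qPlus_eq]
  exact exists_equiv_shiftQ_iff (nondeg_qPlus _) (k := k) (by simp [two_mul]) w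

theorem shiftQ_minus_iff (k : ℕ) (w : Fin (k + 1) ⊕ Fin (k + 1) → ZMod 2) :
    (∃ g : (Fin (k + 1) ⊕ Fin (k + 1) → ZMod 2) ≃ₗ[ZMod 2] ((Fin k ⊕ Fin k) ⊕ Fin 2 → ZMod 2),
      ∀ v, shiftQ (qPlus (ZMod 2) (k + 1)) w v = Cfsg.quadFormMinus k (ZMod 2) 1 1 (g v)) ↔
      ¬ qPlus (ZMod 2) (k + 1) w = 0 := by
  rw [← shiftQ_plus_iff]
  simp only [qPlus_eq, qMinus_eq]
  constructor
  · rintro ⟨g, hg⟩ ⟨g', hg'⟩
    have h1 := card_zeros_qPlus (F := ZMod 2) k
    rw [← card_level_congr g' (fun v => (hg' v).symm), card_level_congr g (fun v => (hg v).symm),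
      card_zeros_qMinus k anisotropic_one_one] at h1
    linarith [pow_lt_pow_succ_card (F := ZMod 2) k]
  · intro h
    rcases exists_equiv_or ((nondeg_qPlus (k + 1)).shiftQ w) (m := k) (by simp [two_mul])
      anisotropic_one_one with ⟨e, he⟩ | ⟨e, he⟩
    · exact (h ⟨e.symm, fun v => by rw [← he, e.apply_symm_apply]⟩).elim
    · exact ⟨e.symm, fun v => by rw [← he, e.apply_symm_apply]⟩

theorem card_polarizing {m : ℕ} (p : ((Fin m ⊕ Fin m → ZMod 2) → ZMod 2) → Prop) :
    Nat.card {q : (Fin m ⊕ Fin m → ZMod 2) → ZMod 2 // (∀ u v, q (u + v) = q u + q v +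
      (Cfsg.quadFormPlus m (ZMod 2) (u + v) - Cfsg.quadFormPlus m (ZMod 2) u
        - Cfsg.quadFormPlus m (ZMod 2) v)) ∧ p q}
      = Nat.card {w // p (shiftQ (qPlus (ZMod 2) m) w)} := by
  refine (Nat.card_congr (Equiv.ofBijective (fun w => ⟨shiftQ (qPlus (ZMod 2) m) w.1,
    fun u v => by rw [polar_quadFormPlus, Q_add, polar_shiftQ], w.2⟩)
    ⟨fun w w' h => Subtype.ext (shiftQ_injective (nondeg_qPlus m) (congrArg Subtype.val h)), ?_⟩)).symm
  rintro ⟨q, h1, h2⟩
  obtain ⟨w, rfl⟩ := exists_eq_shiftQ (nondeg_qPlus m) (q := q)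
    fun u v => by rw [h1, polar_quadFormPlus]
  exact ⟨⟨w, h2⟩, rfl⟩

/-! ### Symmetric groups -/

open CfsgLib.Classical

/-- The shifting vector for the form preserved by the symmetric group. -/
def symmW (m : ℕ) : Fin m ⊕ Fin m → ZMod 2 :=
  Sum.elim (fun l => if l.val % 2 = 0 then 1 else 0) fun l => if l.val % 2 = 0 then 1 else 0

theorem sum_range_even (j : ℕ) :
    ∑ l ∈ Finset.range j, (if l % 2 = 0 then (1 : ZMod 2) else 0) = ((j + 1) / 2 : ℕ) := by
  induction j with
  | zero => simp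
  | succ j ih =>
    rw [Finset.sum_range_succ, ih]
    split_ifs with h
    · rw [show (j + 1 + 1) / 2 = (j + 1) / 2 + 1 by omega, Nat.cast_succ]
    · rw [show (j + 1 + 1) / 2 = (j + 1) / 2 by omega, add_zero]

theorem qPlus_symmW (m : ℕ) : qPlus (ZMod 2) m (symmW m) = ((m + 1) / 2 : ℕ) := by
  rw [qPlus_apply, ← sum_range_even, Finset.sum_range]
  exact Finset.sum_congr rfl fun l _ => zmod_two_mul_self _

theorem sum_range_symm (a m : ℕ) : ∑ l ∈ Finset.range m,
    (if 2 * l + 3 ≤ a ∨ (2 * l + 1 ≤ a ∧ l % 2 = 0) then (1 : ZMod 2) else 0)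
      = if 2 * m + 1 ≤ a then (if m % 2 = 0 then 0 else 1) else if a = 0 then 0 else 1 := by
  induction m with
  | zero => simp
  | succ m ih =>
    rw [Finset.sum_range_succ, ih]
    split_ifs <;> first | omega | decide

theorem shiftQ_symmSpVec {m : ℕ} (hm : Odd m) (a : Fin (2 * m + 2)) :
    shiftQ (qPlus (ZMod 2) m) (symmW m) (symmSpVec m a) = if a = 0 then 0 else 1 := by
  have h1 := sum_range_symm a m
  rw [Finset.sum_range] at h1
  rw [shiftQ_apply, qPlus_apply, polar_qPlus, ← Finset.sum_add_distrib]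
  refine (Finset.sum_congr rfl fun l _ => ?_).trans (h1.trans ?_)
  · simp only [symmSpVec_inl, symmSpVec_inr, symmW, Sum.elim_inl, Sum.elim_inr]
    split_ifs <;> first | omega | decide
  · have := Nat.odd_iff.1 hm
    simp only [Fin.ext_iff, Fin.val_zero]
    split_ifs <;> first | omega | rfl

theorem exists_perm_hom_shiftQ {m : ℕ} (hm : Odd m) (hm2 : 2 ≤ m) :
    ∃ ρ : Equiv.Perm (Fin (2 * m + 2)) →*
      ((Fin m ⊕ Fin m → ZMod 2) ≃ₗ[ZMod 2] (Fin m ⊕ Fin m → ZMod 2)), Function.Injective ρ ∧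
      ∀ g x, shiftQ (qPlus (ZMod 2) m) (symmW m) (ρ g x) = shiftQ (qPlus (ZMod 2) m) (symmW m) x := by
  obtain ⟨f, hf⟩ := exists_perm_hom_sp m
  refine ⟨(Forms.matEquiv (symplecticGroup (Fin m) (ZMod 2)).subtype).comp f,
    (matEquiv_injective _ Subtype.val_injective).comp
      (perm_hom_injective (by rw [Nat.card_fin]; omega) f ?_), fun g x => ?_⟩
  · let i0 : Fin (2 * m + 2) := ⟨0, by omega⟩
    let i1 : Fin (2 * m + 2) := ⟨1, by omega⟩
    let i2 : Fin (2 * m + 2) := ⟨2, by omega⟩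
    let i3 : Fin (2 * m + 2) := ⟨3, by omega⟩
    have h01 : i0 ≠ i1 := by simp [i0, i1]
    have h02 : i0 ≠ i2 := by simp [i0, i2, Fin.ext_iff]
    refine ⟨Equiv.swap i0 i1 * Equiv.swap i0 i2, by
      rw [Equiv.Perm.mem_alternatingGroup, map_mul, Equiv.Perm.sign_swap h01,
        Equiv.Perm.sign_swap h02]; simp, fun h => ?_⟩
    have := hf (Equiv.swap i0 i1 * Equiv.swap i0 i2) i0 i3
    rw [h, Equiv.Perm.mul_apply, Equiv.Perm.mul_apply, Equiv.swap_apply_left,
      Equiv.swap_apply_of_ne_of_ne h02.symm (by simp [i1, i2, Fin.ext_iff]),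
      Equiv.swap_apply_of_ne_of_ne (x := i3) (by simp [i0, i3, Fin.ext_iff])
        (by simp [i2, i3, Fin.ext_iff]),
      Equiv.swap_apply_of_ne_of_ne (x := i3) (by simp [i0, i3, Fin.ext_iff])
        (by simp [i1, i3, Fin.ext_iff])] at this
    have h2 := congrFun this (Sum.inr ⟨0, by omega⟩)
    simp [i0, i2, i3, symmSpVec_inr] at h2
  · change shiftQ _ _ ((f g).1 *ᵥ x) = _
    have hx : x ∈ Submodule.span (ZMod 2) (Set.range fun a : Fin (2 * m + 2) => symmSpVec m a) :=
      symmSpVec_span m ▸ Submodule.mem_top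
    induction hx using Submodule.span_induction with
    | mem x hx =>
      obtain ⟨a, rfl⟩ := hx
      have := hf g a 0
      rw [Fin.val_zero, symmSpVec_zero, add_zero] at this
      simp only
      rw [this, Q_add, polar_shiftQ, polar_qPlus_spB, spB_symmSpVec, shiftQ_symmSpVec hm,
        shiftQ_symmSpVec hm, shiftQ_symmSpVec hm]
      simp only [g.apply_eq_iff_eq]
      split_ifs <;> decide
    | zero => rw [mulVec_zero]
    | add x y _ _ hx hy =>
      rw [mulVec_add, Q_add, Q_add, hx, hy, polar_shiftQ, polar_shiftQ, polar_qPlus_spB,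
        polar_qPlus_spB, (mem_sp_iff _).1 (f g).2]
    | smul a x _ hx => rw [mulVec_smul, Q_smul, Q_smul, hx]

end CfsgLib.OrthE
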